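import Groth.Agent.Lib.Helper19.FibFlat.Sch

set_option autoImplicit false
set_option linter.style.haveILetI false
universe u
open CategoryTheory CategoryTheory.Limits AlgebraicGeometry

namespace Groth.Agent.Helper19.FibFlatLfp

/-- transport of flatness of stalk maps along an equality of morphisms -/
theorem stalkMap_flat_congr {A B : Scheme.{u}} {g g' : A ⟶ B} (e : g = g') (x : A) :
    (g.stalkMap x).hom.Flat ↔ (g'.stalkMap x).hom.Flat := by
  subst e
  rfl

theorem stalkMap_comp_flat {A B C : Scheme.{u}} (f : A ⟶ B) (g : B ⟶ C) (x : A)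
    (hf : (f.stalkMap x).hom.Flat) (hg : (g.stalkMap (f x)).hom.Flat) :
    ((f ≫ g).stalkMap x).hom.Flat := by
  rw [Scheme.Hom.stalkMap_comp]
  exact RingHom.Flat.comp hg hf

theorem stalkMap_flat_of_comp {A B C : Scheme.{u}} (f : A ⟶ B) (g : B ⟶ C) (x : A)
    (hf : (f.stalkMap x).hom.Flat) (hfg : ((f ≫ g).stalkMap x).hom.Flat) :
    (g.stalkMap (f x)).hom.Flat := by
  rw [Scheme.Hom.stalkMap_comp] at hfg
  exact RingHom.Flat.of_comp_of_isLocalHom (g.stalkMap (f x)).hom (f.stalkMap x).hom hf hfg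

theorem stalkMap_flat_iff_of_flat_left {A' A B : Scheme.{u}} (j : A' ⟶ A) [Flat j]
    (g : A ⟶ B) (p : A') :
    ((j ≫ g).stalkMap p).hom.Flat ↔ (g.stalkMap (j p)).hom.Flat :=
  ⟨fun h => stalkMap_flat_of_comp j g p (Flat.stalkMap j p) h,
    fun h => stalkMap_comp_flat j g p (Flat.stalkMap j p) h⟩

/-- descent of flatness at a point along a commutative square with flat vertical maps -/
theorem stalkMap_flat_of_square {P' Q' P Q : Scheme.{u}} (p : P' ⟶ P) (q : Q' ⟶ Q)
    (φ' : P' ⟶ Q') (φ : P ⟶ Q) [Flat p] [Flat q] (e : p ≫ φ = φ' ≫ q) (x' : P')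
    (h : (φ'.stalkMap x').hom.Flat) : (φ.stalkMap (p x')).hom.Flat := by
  apply stalkMap_flat_of_comp p φ x' (Flat.stalkMap p x')
  rw [stalkMap_flat_congr e]
  exact stalkMap_comp_flat φ' q x' h (Flat.stalkMap q _)

/-- flatness at a point is stable under base change, for a morphism locally of finite
presentation -/
theorem stalkMap_flat_baseChange {U' V' U V : Scheme.{u}} {pU : U' ⟶ U} {a' : U' ⟶ V'}
    {a : U ⟶ V} {pV : V' ⟶ V} (sq : IsPullback pU a' a pV) [LocallyOfFinitePresentation a]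
    (u' : U') (h : (a.stalkMap (pU u')).hom.Flat) : (a'.stalkMap u').hom.Flat := by
  let U₀ : U.Opens := ⟨{x | (a.stalkMap x).hom.Flat},
    Groth.Agent.Helper21.FL.isOpen_flatLocus_scheme a⟩
  haveI : Flat (U₀.ι ≫ a) := Flat.of_stalkMap _ fun p =>
    (stalkMap_flat_iff_of_flat_left U₀.ι a p).2 (by
      change (a.stalkMap p.1).hom.Flat
      exact p.2)
  have sq2 : IsPullback (pullback.snd pU U₀.ι) (pullback.fst pU U₀.ι ≫ a') (U₀.ι ≫ a) pV :=
    (IsPullback.of_hasPullback pU U₀.ι).flip.paste_vert sq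
  haveI : Flat (pullback.fst pU U₀.ι ≫ a') :=
    MorphismProperty.of_isPullback (P := @Flat) sq2 inferInstance
  obtain ⟨z, hz1, -⟩ := Scheme.Pullback.exists_preimage_pullback (f := pU) (g := U₀.ι) u'
    (⟨pU u', h⟩ : U₀) (by simp)
  have := (stalkMap_flat_iff_of_flat_left (pullback.fst pU U₀.ι) a' z).1
    (Flat.stalkMap (pullback.fst pU U₀.ι ≫ a') z)
  rwa [hz1] at this

/-- the pointwise criterion with the fibre over an abstract point -/
theorem stalk_flat_of_fiberMap_flat {U V W : Scheme.{u}} (a : U ⟶ V) (b : V ⟶ W)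
    [LocallyOfFinitePresentation (a ≫ b)] [LocallyOfFiniteType b]
    (φ : ∀ s : W, (a ≫ b).fiber s ⟶ b.fiber s)
    (hφ : ∀ s, φ s ≫ b.fiberι s = (a ≫ b).fiberι s ≫ a)
    (x : U) (s : W) (hs : (a ≫ b) x = s) (y : (a ≫ b).fiber s) (hy : (a ≫ b).fiberι s y = x)
    (h1 : ((a ≫ b).stalkMap x).hom.Flat) (h2 : ((φ s).stalkMap y).hom.Flat) :
    (a.stalkMap x).hom.Flat := by
  subst hs
  have hy' : y = (a ≫ b).asFiber x := by
    apply ((a ≫ b).fiberι _).isEmbedding.injective
    rw [hy, Scheme.Hom.fiberι_asFiber]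
  subst hy'
  exact ((Groth.Agent.Helper21.CPF.critere_fibres a b φ hφ).1 x).mp ⟨h1, h2⟩ |>.2

/-- flatness of the fibre over a field valued point, at a point, implies flatness at its image -/
theorem stalkMap_flat_of_fibre_flat {U V W : Scheme.{u}} (a : U ⟶ V) (b : V ⟶ W)
    [LocallyOfFinitePresentation (a ≫ b)] [LocallyOfFiniteType b] [Flat (a ≫ b)]
    (K : Type u) [Field K] (t : Spec (CommRingCat.of K) ⟶ W) {Ut Vt : Scheme.{u}}
    {pU : Ut ⟶ U} {qU : Ut ⟶ Spec (CommRingCat.of K)} {pV : Vt ⟶ V}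
    {qV : Vt ⟶ Spec (CommRingCat.of K)} (at' : Ut ⟶ Vt)
    (sqU : IsPullback pU qU (a ≫ b) t) (sqV : IsPullback pV qV b t)
    (e1 : at' ≫ pV = pU ≫ a) (e2 : at' ≫ qV = qU)
    (x : Ut) (h : (at'.stalkMap x).hom.Flat) : (a.stalkMap (pU x)).hom.Flat := by
  set s : W := t (IsLocalRing.closedPoint K) with hsdef
  let e : W.residueField s ⟶ CommRingCat.of K :=
    Scheme.descResidueField (Scheme.stalkClosedPointTo t)
  have he : Spec.map e ≫ W.fromSpecResidueField s = t :=
    Scheme.descResidueField_stalkClosedPointTo_fromSpecResidueField K W t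
  haveI : Flat (Spec.map e) := inferInstance
  -- comparison maps to the fibres over `s`
  let mU : Ut ⟶ (a ≫ b).fiber s := pullback.lift pU (qU ≫ Spec.map e)
    (by rw [Category.assoc, he, sqU.w])
  have hmU1 : mU ≫ (a ≫ b).fiberι s = pU := pullback.lift_fst _ _ _
  have hmU2 : mU ≫ (a ≫ b).fiberToSpecResidueField s = qU ≫ Spec.map e := pullback.lift_snd _ _ _
  have sqmU : IsPullback mU qU ((a ≫ b).fiberToSpecResidueField s) (Spec.map e) := by
    refine IsPullback.of_right ?_ hmU2 (IsPullback.of_hasPullback (a ≫ b) (W.fromSpecResidueField s))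
    rw [he]
    change IsPullback (mU ≫ (a ≫ b).fiberι s) qU (a ≫ b) t
    rw [hmU1]
    exact sqU
  haveI : Flat mU := MorphismProperty.of_isPullback (P := @Flat) sqmU.flip inferInstance
  let mV : Vt ⟶ b.fiber s := pullback.lift pV (qV ≫ Spec.map e)
    (by rw [Category.assoc, he, sqV.w])
  have hmV1 : mV ≫ b.fiberι s = pV := pullback.lift_fst _ _ _
  have hmV2 : mV ≫ b.fiberToSpecResidueField s = qV ≫ Spec.map e := pullback.lift_snd _ _ _
  have sqmV : IsPullback mV qV (b.fiberToSpecResidueField s) (Spec.map e) := by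
    refine IsPullback.of_right ?_ hmV2 (IsPullback.of_hasPullback b (W.fromSpecResidueField s))
    rw [he]
    change IsPullback (mV ≫ b.fiberι s) qV b t
    rw [hmV1]
    exact sqV
  haveI : Flat mV := MorphismProperty.of_isPullback (P := @Flat) sqmV.flip inferInstance
  let φ : ∀ s : W, (a ≫ b).fiber s ⟶ b.fiber s := fun s =>
    Limits.pullback.lift ((a ≫ b).fiberι s ≫ a) ((a ≫ b).fiberToSpecResidueField s)
      (by rw [Category.assoc]; exact (a ≫ b).fiber_fac s)
  have hφ1 : ∀ s, φ s ≫ b.fiberι s = (a ≫ b).fiberι s ≫ a := fun s => pullback.lift_fst _ _ _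
  have hφ2 : ∀ s, φ s ≫ b.fiberToSpecResidueField s = (a ≫ b).fiberToSpecResidueField s :=
    fun s => pullback.lift_snd _ _ _
  have comm : mU ≫ φ s = at' ≫ mV := by
    apply pullback.hom_ext
    · change (mU ≫ φ s) ≫ b.fiberι s = (at' ≫ mV) ≫ b.fiberι s
      rw [Category.assoc, hφ1, ← Category.assoc, hmU1, Category.assoc, hmV1, e1]
    · change (mU ≫ φ s) ≫ b.fiberToSpecResidueField s = (at' ≫ mV) ≫ b.fiberToSpecResidueField s
      rw [Category.assoc, hφ2, hmU2, Category.assoc, hmV2, ← Category.assoc, e2]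
  have hφflat : ((φ s).stalkMap (mU x)).hom.Flat := stalkMap_flat_of_square mU mV at' (φ s) comm x h
  have hx : (a ≫ b).fiberι s (mU x) = pU x := by
    rw [← Scheme.Hom.comp_apply, hmU1]
  have hs : (a ≫ b) (pU x) = s := by
    rw [← hx]
    have : (a ≫ b).fiberι s (mU x) ∈ Set.range ((a ≫ b).fiberι s) := ⟨_, rfl⟩
    rw [Scheme.Hom.range_fiberι] at this
    exact this
  exact stalk_flat_of_fiberMap_flat a b φ hφ1 (pU x) s hs (mU x) hx (Flat.stalkMap (a ≫ b) _) hφflat

/-- the flat locus of `U ⟶ V` over `W` commutes with base change `W' ⟶ W`, when `U` is flat and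
locally of finite presentation over `W` and `V` is locally of finite type over `W` -/
theorem stalkMap_flat_baseChange_iff {U V W W' U' V' : Scheme.{u}} (a : U ⟶ V) (b : V ⟶ W)
    [LocallyOfFinitePresentation (a ≫ b)] [LocallyOfFiniteType b] [Flat (a ≫ b)]
    (w : W' ⟶ W) {pV : V' ⟶ V} {b' : V' ⟶ W'} (sqV : IsPullback pV b' b w) {pU : U' ⟶ U}
    (a' : U' ⟶ V') (sqU : IsPullback pU (a' ≫ b') (a ≫ b) w) (e : a' ≫ pV = pU ≫ a) (u' : U') :
    (a'.stalkMap u').hom.Flat ↔ (a.stalkMap (pU u')).hom.Flat := by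
  haveI : LocallyOfFinitePresentation a :=
    Groth.Agent.Helper7.locallyOfFinitePresentation_of_comp a b inferInstance inferInstance
  have sqA : IsPullback pU a' a pV := IsPullback.of_bot sqU e.symm sqV
  refine ⟨fun h => ?_, fun h => stalkMap_flat_baseChange sqA u' h⟩
  haveI : LocallyOfFinitePresentation (a' ≫ b') :=
    MorphismProperty.of_isPullback (P := @LocallyOfFinitePresentation) sqU inferInstance
  haveI : Flat (a' ≫ b') := MorphismProperty.of_isPullback (P := @Flat) sqU inferInstance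
  haveI : LocallyOfFiniteType b' :=
    MorphismProperty.of_isPullback (P := @LocallyOfFiniteType) sqV inferInstance
  let φ' : ∀ s : W', (a' ≫ b').fiber s ⟶ b'.fiber s := fun s =>
    Limits.pullback.lift ((a' ≫ b').fiberι s ≫ a') ((a' ≫ b').fiberToSpecResidueField s)
      (by rw [Category.assoc]; exact (a' ≫ b').fiber_fac s)
  have hφ1 : ∀ s, φ' s ≫ b'.fiberι s = (a' ≫ b').fiberι s ≫ a' := fun s => pullback.lift_fst _ _ _
  have hφ2 : ∀ s, φ' s ≫ b'.fiberToSpecResidueField s = (a' ≫ b').fiberToSpecResidueField s :=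
    fun s => pullback.lift_snd _ _ _
  have hb' : (b'.stalkMap (a' u')).hom.Flat :=
    stalkMap_flat_of_comp a' b' u' h (Flat.stalkMap (a' ≫ b') u')
  have key := ((Groth.Agent.Helper21.CPF.critere_fibres a' b' φ' hφ1).1 u').mpr ⟨hb', h⟩
  have key2 : ((φ' ((a' ≫ b') u')).stalkMap ((a' ≫ b').asFiber u')).hom.Flat := key.2
  have sqUt : IsPullback ((a' ≫ b').fiberι ((a' ≫ b') u') ≫ pU) ((a' ≫ b').fiberToSpecResidueField ((a' ≫ b') u'))
      (a ≫ b) (W'.fromSpecResidueField ((a' ≫ b') u') ≫ w) :=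
    (IsPullback.of_hasPullback (a' ≫ b') (W'.fromSpecResidueField ((a' ≫ b') u'))).paste_horiz sqU
  have sqVt : IsPullback (b'.fiberι ((a' ≫ b') u') ≫ pV) (b'.fiberToSpecResidueField ((a' ≫ b') u'))
      b (W'.fromSpecResidueField ((a' ≫ b') u') ≫ w) :=
    (IsPullback.of_hasPullback b' (W'.fromSpecResidueField ((a' ≫ b') u'))).paste_horiz sqV
  have := stalkMap_flat_of_fibre_flat a b (W'.residueField ((a' ≫ b') u')) (W'.fromSpecResidueField ((a' ≫ b') u') ≫ w)
    (φ' ((a' ≫ b') u')) sqUt sqVt (by rw [← Category.assoc, hφ1, Category.assoc, e, Category.assoc]) (hφ2 ((a' ≫ b') u'))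
    ((a' ≫ b').asFiber u') key2
  rwa [Scheme.Hom.comp_apply, Scheme.Hom.fiberι_asFiber] at this

end Groth.Agent.Helper19.FibFlatLfp
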