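import Groth.Agent.Lib.Helper16.Sch.FibFlatSch
import Groth.Agent.Lib.Helper21.CPF11

set_option autoImplicit false
set_option linter.style.haveILetI false
universe u
open CategoryTheory CategoryTheory.Limits AlgebraicGeometry

namespace Groth.Agent.Helper19.FibFlatLfp

open Groth.Agent.Helper16.FibFlatSch

/-- the pointwise conclusion of the fibrewise criterion of flatness, finitely presented case -/
theorem stalk_flat_of_fibFlat {U V W : Scheme.{u}} (a : U ⟶ V) (b : V ⟶ W)
    [LocallyOfFinitePresentation (a ≫ b)] [LocallyOfFiniteType b] [Flat (a ≫ b)]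
    (hfib : FibFlat a b) (x : U) :
    (b.stalkMap (a x)).hom.Flat ∧ (a.stalkMap x).hom.Flat := by
  let φ : ∀ s : W, (a ≫ b).fiber s ⟶ b.fiber s := fun s =>
    Limits.pullback.lift ((a ≫ b).fiberι s ≫ a) ((a ≫ b).fiberToSpecResidueField s)
      (by rw [Category.assoc]; exact (a ≫ b).fiber_fac s)
  have key := (Groth.Agent.Helper21.CPF.critere_fibres a b φ
    (fun s => Limits.pullback.lift_fst _ _ _)).1 x
  refine key.mp ⟨Flat.stalkMap (a ≫ b) x, ?_⟩
  set s : W := b (a x) with hs
  have hflat : Flat (φ s) := by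
    refine hfib (W.residueField s) (W.fromSpecResidueField s) ((a ≫ b).fiber s) (b.fiber s)
      ((a ≫ b).fiberι s) ((a ≫ b).fiberToSpecResidueField s) (b.fiberι s)
      (b.fiberToSpecResidueField s) (φ s) ?_ ?_ ?_ ?_
    · exact IsPullback.of_hasPullback (a ≫ b) (W.fromSpecResidueField s)
    · exact IsPullback.of_hasPullback b (W.fromSpecResidueField s)
    · exact Limits.pullback.lift_fst _ _ _
    · exact Limits.pullback.lift_snd _ _ _
  exact Flat.stalkMap (φ s) _

/-- fibrewise criterion of flatness, finitely presented case, first half -/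
theorem flat_of_fibFlat_lfp {U V W : Scheme.{u}} (a : U ⟶ V) (b : V ⟶ W)
    [LocallyOfFinitePresentation (a ≫ b)] [LocallyOfFiniteType b] [Flat (a ≫ b)]
    (hfib : FibFlat a b) : Flat a :=
  Flat.of_stalkMap a fun x => (stalk_flat_of_fibFlat a b hfib x).2

/-- fibrewise criterion of flatness, finitely presented case, second half -/
theorem flat_of_fibFlat_lfp_of_surjective {U V W : Scheme.{u}} (a : U ⟶ V) (b : V ⟶ W)
    [LocallyOfFinitePresentation (a ≫ b)] [LocallyOfFiniteType b] [Flat (a ≫ b)]
    (hfib : FibFlat a b) (hs : Function.Surjective a.base) : Flat b := by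
  refine Flat.of_stalkMap b fun v => ?_
  obtain ⟨x, rfl⟩ := hs v
  exact (stalk_flat_of_fibFlat a b hfib x).1

end Groth.Agent.Helper19.FibFlatLfp
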