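import Groth.Prelude.Def_AlgSpMor5
import Groth.Agent.Lib.Helper19.FibFlat.BC
import Groth.Agent.Lib.Helper16.AlgSp.FibFlatSp
import Groth.Agent.Lib.Helper15.AlgSpAtNbhd
import Groth.Agent.Lib.Helper15.AlgSpTop
import Groth.Agent.Lib.Helper15.AlgSpFibre

set_option autoImplicit false
set_option linter.style.haveILetI false
universe u
open CategoryTheory CategoryTheory.Limits AlgebraicGeometry MorphismProperty
open AlgSp Groth.Agent.Helper15 Groth.Agent.Helper16.AS

namespace Groth.Agent.Helper19.FibFlatLfp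

variable {S : Scheme.{u}}

/-- one chart diagram suffices to test flatness at a point, when the chart morphism is locally of
finite presentation -/
theorem isFlatAtMor_of_chart {X Y : Sp S} (hX : IsAlgSpace X) (hY : IsAlgSpace Y) (f : X ⟶ Y)
    {U V : Over S} (a : (yon S).obj U ⟶ X) (b : (yon S).obj V ⟶ Y) (h : U ⟶ V)
    (ha : RepWith @Etale a) (hb : RepWith @Etale b) (comm : a ≫ f = (yon S).map h ≫ b)
    [LocallyOfFinitePresentation h.left] (u : U.left) (hu : (h.left.stalkMap u).hom.Flat) :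
    IsFlatAtMor f (Points.ofPt a u) := by
  let U₀ : U.left.Opens := ⟨{x | (h.left.stalkMap x).hom.Flat},
    Groth.Agent.Helper21.FL.isOpen_flatLocus_scheme h.left⟩
  let U' : Over S := Over.mk (U₀.ι ≫ U.hom)
  let j₀ : U' ⟶ U := Over.homMk U₀.ι rfl
  have hj₀ : Etale j₀.left := (inferInstance : Etale U₀.ι)
  have ha' : RepWith @Etale ((yon S).map j₀ ≫ a) :=
    (RepWith @Etale).comp_mem _ _ ((repWith_yon_map_iff _ j₀).2 hj₀) ha
  obtain ⟨h1, h2, h3, h4, h5⟩ := openSubspace_of_etale hX _ ha'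
  have hflat : Flat (j₀ ≫ h).left := by
    change Flat (U₀.ι ≫ h.left)
    exact Flat.of_stalkMap _ fun p =>
      (stalkMap_flat_iff_of_flat_left U₀.ι h.left p).2 (by
        change (h.left.stalkMap p.1).hom.Flat
        exact p.2)
  have hloc : LocP @Flat (Sheaf.imageι ((yon S).map j₀ ≫ a) ≫ f) := by
    refine locP_of_one_chart goodP_flat srcEtLoc_flat h1 hY _
      (Sheaf.toImage ((yon S).map j₀ ≫ a)) b (j₀ ≫ h) h3 h4 hb ?_ hflat
    rw [← Category.assoc, Sheaf.toImage_ι, Category.assoc, comm, Functor.map_comp,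
      Category.assoc]
  intro U₁ V₁ a₁ b₁ h₁ u₁ ha₁ hb₁ comm₁ hx
  have hrep := ha₁.rep
  have sq := hrep.isPullback' ((yon S).map j₀ ≫ a)
  have hpr₁ : Etale (hrep.fst' ((yon S).map j₀ ≫ a)).left :=
    (repWith_yon_map_iff _ _).1 ((RepWith @Etale).of_isPullback sq.flip ha')
  have hpr₂ : RepWith @Etale ((yon S).map (hrep.snd ((yon S).map j₀ ≫ a))) :=
    (RepWith @Etale).of_isPullback sq ha₁
  have hpt : Points.ofPt a₁ u₁ = Points.ofPt ((yon S).map j₀ ≫ a) (⟨u, hu⟩ : U₀) := by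
    rw [hx, ofPt_comp_yon_map]
    rfl
  obtain ⟨v, hv1, -⟩ := exists_of_ofPt_eq sq u₁ (⟨u, hu⟩ : U₀) hpt
  have hchart : Flat (hrep.fst' ((yon S).map j₀ ≫ a) ≫ h₁).left := by
    refine hloc ((yon S).map (hrep.snd ((yon S).map j₀ ≫ a)) ≫
      Sheaf.toImage ((yon S).map j₀ ≫ a)) b₁ (hrep.fst' ((yon S).map j₀ ≫ a) ≫ h₁)
      ((RepWith @Etale).comp_mem _ _ hpr₂ h3) hb₁ ?_
    rw [Category.assoc, ← Category.assoc (Sheaf.toImage _), Sheaf.toImage_ι, ← sq.w_assoc, comm₁,
      Functor.map_comp, Category.assoc]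
  have := (stalkMap_flat_iff_of_flat_left (hrep.fst' ((yon S).map j₀ ≫ a)).left h₁.left v).1
    (by
      have h' := hchart
      change Flat ((hrep.fst' ((yon S).map j₀ ≫ a)).left ≫ h₁.left) at h'
      exact Flat.stalkMap _ v)
  rwa [hv1] at this


/-- base change of a chart along `Z' ⟶ Z`, relative to an atlas of `Z' ×_Z h_{W₀}` -/
theorem exists_chart_baseChange {Z Z' A A' : Sp S} (g : Z' ⟶ Z) {W₀ W₀' : Over S}
    (qW : (yon S).obj W₀ ⟶ Z) (rW' : (yon S).obj W₀' ⟶ pullback g qW)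
    (hrWe : RepWith @Etale rW') (hrWs : RepWith @Surjective rW')
    (w₀ : W₀' ⟶ W₀) (hw₀ : (yon S).map w₀ = rW' ≫ pullback.snd g qW)
    {α : A ⟶ Z} {α' : A' ⟶ Z'} {pA : A' ⟶ A} (hA : IsPullback pA α' α g)
    {T T' : Over S} (q : (yon S).obj T ⟶ A) (t : T ⟶ W₀) (hq : q ≫ α = (yon S).map t ≫ qW)
    {pT : T' ⟶ T} {t' : T' ⟶ W₀'} (sqT : IsPullback pT t' t w₀) :
    ∃ q' : (yon S).obj T' ⟶ A', q' ≫ pA = (yon S).map pT ≫ q ∧
      q' ≫ α' = (yon S).map t' ≫ rW' ≫ pullback.fst g qW ∧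
      (RepWith @Etale q → RepWith @Etale q') ∧ (RepWith @Surjective q → RepWith @Surjective q') := by
  let m : (yon S).obj T' ⟶ pullback ((yon S).map t) (pullback.snd g qW) :=
    pullback.lift ((yon S).map pT) ((yon S).map t' ≫ rW') (by
      rw [Category.assoc, ← hw₀, ← Functor.map_comp, ← Functor.map_comp, sqT.w])
  have hm1 : m ≫ pullback.fst _ _ = (yon S).map pT := pullback.lift_fst _ _ _
  have hm2 : m ≫ pullback.snd _ _ = (yon S).map t' ≫ rW' := pullback.lift_snd _ _ _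
  have sqm : IsPullback m ((yon S).map t') (pullback.snd ((yon S).map t) (pullback.snd g qW))
      rW' := by
    refine IsPullback.of_right ?_ hm2
      (IsPullback.of_hasPullback ((yon S).map t) (pullback.snd g qW))
    rw [hm1, ← hw₀]
    exact sqT.map (yon S)
  have hcn : (pullback.fst ((yon S).map t) (pullback.snd g qW) ≫ q) ≫ α =
      (pullback.snd ((yon S).map t) (pullback.snd g qW) ≫ pullback.fst g qW) ≫ g := by
    rw [Category.assoc, hq, ← Category.assoc, pullback.condition, Category.assoc, Category.assoc,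
      pullback.condition]
  let n : pullback ((yon S).map t) (pullback.snd g qW) ⟶ A' := hA.lift _ _ hcn
  have hn1 : n ≫ pA = pullback.fst _ _ ≫ q := hA.lift_fst _ _ _
  have hn2 : n ≫ α' = pullback.snd _ _ ≫ pullback.fst g qW := hA.lift_snd _ _ _
  have sqn : IsPullback n (pullback.fst ((yon S).map t) (pullback.snd g qW)) pA q := by
    refine IsPullback.of_right ?_ hn1 hA.flip
    rw [hn2, hq]
    exact (IsPullback.of_hasPullback ((yon S).map t) (pullback.snd g qW)).flip.paste_horiz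
      (IsPullback.of_hasPullback g qW)
  refine ⟨m ≫ n, ?_, ?_, fun hqe => ?_, fun hqs => ?_⟩
  · rw [Category.assoc, hn1, ← Category.assoc, hm1]
  · rw [Category.assoc, hn2, ← Category.assoc, hm2, Category.assoc]
  · exact (RepWith @Etale).comp_mem _ _ ((RepWith @Etale).of_isPullback sqm.flip hrWe)
      ((RepWith @Etale).of_isPullback sqn.flip hqe)
  · exact (RepWith @Surjective).comp_mem _ _ ((RepWith @Surjective).of_isPullback sqm.flip hrWs)
      ((RepWith @Surjective).of_isPullback sqn.flip hqs)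


/-- openness of the flat locus of `f : X ⟶ Y` over `Z` and its compatibility with base change -/
theorem isOpen_flatLocus_and_baseChange {X Y Z : Sp S} (hXa : IsAlgSpace X) (hYa : IsAlgSpace Y)
    (hZa : IsAlgSpace Z) (f : X ⟶ Y) (h : Y ⟶ Z)
    (hfp : LocP @LocallyOfFinitePresentation (f ≫ h)) (hfl : LocP @Flat (f ≫ h))
    (hft : LocP @LocallyOfFiniteType h) :
    IsOpen {x : Points X | IsFlatAtMor f x} ∧
    ∀ (X' Y' Z' : Sp S), IsAlgSpace X' → IsAlgSpace Y' → IsAlgSpace Z' →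
      ∀ (g : Z' ⟶ Z) (f' : X' ⟶ Y') (h' : Y' ⟶ Z') (pX : X' ⟶ X) (pY : Y' ⟶ Y),
      IsPullback pY h' h g → IsPullback pX f' f pY →
      {x' : Points X' | IsFlatAtMor f' x'} = Points.map pX ⁻¹' {x | IsFlatAtMor f x} := by
  obtain ⟨W₀, qW, hqWe, hqWs⟩ := hZa.atlas
  obtain ⟨V₀, qV, b₀, hqVe, hqVs, hcV⟩ := exists_chart_lift hYa h qW hqWe hqWs
  obtain ⟨U₀, qU, a₀, hqUe, hqUs, hcU⟩ := exists_chart_lift hXa f qV hqVe hqVs
  have hcUW : qU ≫ f ≫ h = (yon S).map (a₀ ≫ b₀) ≫ qW := by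
    rw [← Category.assoc, hcU, Category.assoc, hcV, Functor.map_comp, Category.assoc]
  haveI hlfp : LocallyOfFinitePresentation (a₀.left ≫ b₀.left) := hfp qU qW (a₀ ≫ b₀) hqUe hqWe hcUW
  haveI hflat : Flat (a₀.left ≫ b₀.left) := hfl qU qW (a₀ ≫ b₀) hqUe hqWe hcUW
  haveI hlft : LocallyOfFiniteType b₀.left := hft qV qW b₀ hqVe hqWe hcV
  haveI : LocallyOfFinitePresentation a₀.left :=
    Groth.Agent.Helper7.locallyOfFinitePresentation_of_comp _ _ hlfp hlft
  have key : ∀ u : U₀.left, IsFlatAtMor f (Points.ofPt qU u) ↔ (a₀.left.stalkMap u).hom.Flat :=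
    fun u => ⟨fun hx => hx qU qV a₀ u hqUe hqVe hcU rfl,
      fun hu => isFlatAtMor_of_chart hXa hYa f qU qV a₀ hqUe hqVe hcU u hu⟩
  refine ⟨?_, ?_⟩
  · have : {x : Points X | IsFlatAtMor f x} =
        Points.ofPt qU '' {u | (a₀.left.stalkMap u).hom.Flat} := by
      ext x
      constructor
      · intro hx
        obtain ⟨u, rfl⟩ := surjective_ofPt qU hqUs x
        exact ⟨u, (key u).1 hx, rfl⟩
      · rintro ⟨u, hu, rfl⟩
        exact (key u).2 hu
    rw [this]
    exact isOpenMap_ofPt_of_etale qU hqUe _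
      (Groth.Agent.Helper21.FL.isOpen_flatLocus_scheme a₀.left)
  · intro X' Y' Z' hX' hY' hZ' g f' h' pX pY hY hX
    have hXZ : IsPullback pX (f' ≫ h') (f ≫ h) g := hX.paste_vert hY
    have hPa : IsAlgSpace (pullback g qW) :=
      isAlgSpace_pullback hZ' hZa (IsAlgSpace.yon_obj W₀) g qW
    obtain ⟨W₀', rW', hrWe, hrWs⟩ := hPa.atlas
    obtain ⟨w₀, hw₀⟩ := (yon S).map_surjective (rW' ≫ pullback.snd g qW)
    have sqV := IsPullback.of_hasPullback b₀ w₀
    have sqU := IsPullback.of_hasPullback (a₀ ≫ b₀) w₀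
    obtain ⟨qV', hqV'1, hqV'2, hqV'e, -⟩ :=
      exists_chart_baseChange g qW rW' hrWe hrWs w₀ hw₀ hY qV b₀ hcV sqV
    obtain ⟨qU', hqU'1, hqU'2, hqU'e, hqU's⟩ :=
      exists_chart_baseChange g qW rW' hrWe hrWs w₀ hw₀ hXZ qU (a₀ ≫ b₀) hcUW sqU
    let a₀' : pullback (a₀ ≫ b₀) w₀ ⟶ pullback b₀ w₀ :=
      pullback.lift (pullback.fst _ _ ≫ a₀) (pullback.snd _ _)
        (by rw [Category.assoc, pullback.condition])
    have ha₀'1 : a₀' ≫ pullback.fst b₀ w₀ = pullback.fst _ _ ≫ a₀ := pullback.lift_fst _ _ _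
    have ha₀'2 : a₀' ≫ pullback.snd b₀ w₀ = pullback.snd _ _ := pullback.lift_snd _ _ _
    have hc' : qU' ≫ f' = (yon S).map a₀' ≫ qV' := by
      apply hY.hom_ext
      · rw [Category.assoc, ← hX.w, ← Category.assoc, hqU'1, Category.assoc, hcU, Category.assoc,
          hqV'1, ← Category.assoc, ← Category.assoc, ← Functor.map_comp, ← Functor.map_comp,
          ha₀'1]
      · rw [Category.assoc, hqU'2, Category.assoc, hqV'2, ← ha₀'2, Functor.map_comp]
        simp only [Category.assoc]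
    have sqV' := sqV.map (Over.forget S)
    have sqU2 : IsPullback (pullback.fst (a₀ ≫ b₀) w₀) (a₀' ≫ pullback.snd b₀ w₀) (a₀ ≫ b₀) w₀ := by
      rw [ha₀'2]
      exact sqU
    have sqU' := sqU2.map (Over.forget S)
    have e' : a₀'.left ≫ (pullback.fst b₀ w₀).left = (pullback.fst (a₀ ≫ b₀) w₀).left ≫ a₀.left :=
      congrArg (fun k => k.left) ha₀'1
    have sqA : IsPullback (pullback.fst (a₀ ≫ b₀) w₀).left a₀'.left a₀.left
        (pullback.fst b₀ w₀).left := IsPullback.of_bot sqU' e'.symm sqV'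
    haveI : LocallyOfFinitePresentation a₀'.left :=
      MorphismProperty.of_isPullback (P := @LocallyOfFinitePresentation) sqA inferInstance
    have key' : ∀ u', IsFlatAtMor f' (Points.ofPt qU' u') ↔ (a₀'.left.stalkMap u').hom.Flat :=
      fun u' => ⟨fun hx => hx qU' qV' a₀' u' (hqU'e hqUe) (hqV'e hqVe) hc' rfl,
        fun hu => isFlatAtMor_of_chart hX' hY' f' qU' qV' a₀' (hqU'e hqUe) (hqV'e hqVe) hc' u' hu⟩
    ext x'
    obtain ⟨u', rfl⟩ := surjective_ofPt qU' (hqU's hqUs) x'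
    simp only [Set.mem_ofPred_eq, Set.mem_preimage]
    rw [key' u', Points.map_ofPt, hqU'1, ofPt_comp_yon_map, key]
    exact stalkMap_flat_baseChange_iff a₀.left b₀.left w₀.left sqV' a₀'.left sqU' e' u'

end Groth.Agent.Helper19.FibFlatLfp
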