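import Groth.Agent.Lib.Helper19.FibFlat.SpBC
import Groth.Agent.Lib.Helper16.AlgSp.ThickTop

set_option autoImplicit false
set_option linter.style.haveILetI false
universe u
open CategoryTheory CategoryTheory.Limits AlgebraicGeometry MorphismProperty
open AlgSp Groth.Agent.Helper15 Groth.Agent.Helper16.AS

namespace Groth.Agent.Helper19.FibFlatLfp

variable {S : Scheme.{u}}

/-- a morphism which is flat étale locally is flat at every point -/
theorem isFlatAtMor_of_locP_flat {X Y : Sp S} (f : X ⟶ Y) (hf : LocP @Flat f) (x : Points X) :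
    IsFlatAtMor f x := by
  intro U V a b h u ha hb comm _
  haveI : Flat h.left := hf a b h ha hb comm
  exact Flat.stalkMap h.left u

/-- a morphism which is flat at every point is flat étale locally -/
theorem locP_flat_of_forall_isFlatAtMor {X Y : Sp S} (f : X ⟶ Y)
    (hf : ∀ x : Points X, IsFlatAtMor f x) : LocP @Flat f := by
  intro U V a b h ha hb comm
  exact Flat.of_stalkMap h.left fun u => hf (Points.ofPt a u) a b h u ha hb comm rfl

/-- if `f` and `f ≫ g` are flat then `g` is flat at the points in the image of `f` -/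
theorem isFlatAtMor_of_locP_flat_comp {X Y B : Sp S} (hX : IsAlgSpace X) (hY : IsAlgSpace Y)
    (f : X ⟶ Y) (g : Y ⟶ B) (hf : LocP @Flat f) (hfg : LocP @Flat (f ≫ g)) (x : Points X) :
    IsFlatAtMor g (Points.map f x) := by
  intro V W b c k v hb hc comm hv
  have hPa : IsAlgSpace (pullback f b) := isAlgSpace_pullback hX hY (IsAlgSpace.yon_obj V) f b
  obtain ⟨p, hp1, hp2⟩ := exists_point_of_isPullback (IsPullback.of_hasPullback f b) x
    (Points.ofScheme V v) (by rw [← hv, Points.ofPt_eq_map_ofScheme])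
  obtain ⟨U, r, hre, hrs⟩ := hPa.atlas
  obtain ⟨u, rfl⟩ := surjective_ofPt r hrs p
  obtain ⟨h, hh⟩ := (yon S).map_surjective (r ≫ pullback.snd f b)
  have hae : RepWith @Etale (r ≫ pullback.fst f b) :=
    (RepWith @Etale).comp_mem _ _ hre
      ((RepWith @Etale).of_isPullback (IsPullback.of_hasPullback f b).flip hb)
  have c1 : (r ≫ pullback.fst f b) ≫ f = (yon S).map h ≫ b := by
    rw [Category.assoc, pullback.condition, ← Category.assoc, hh]
  have c2 : (r ≫ pullback.fst f b) ≫ f ≫ g = (yon S).map (h ≫ k) ≫ c := by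
    rw [← Category.assoc, c1, Category.assoc, comm, Functor.map_comp, Category.assoc]
  haveI h1 : Flat h.left := hf _ b h hae hb c1
  haveI h2 : Flat (h.left ≫ k.left) := hfg _ c (h ≫ k) hae hc c2
  have hv' : h.left u = v := by
    apply (Points.schemeEquiv V).injective
    change Points.ofScheme V (h.left u) = Points.ofScheme V v
    rw [← hp2, ← Groth.Agent.Helper15.ofPt_yon_map, hh, Points.map_ofPt]
  have := stalkMap_flat_of_comp h.left k.left u (Flat.stalkMap h.left u)
    (Flat.stalkMap (h.left ≫ k.left) u)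
  rwa [hv'] at this

/-- flatness over a thickening of the base, finitely presented case -/
theorem flat_of_flat_baseChange_thick {X X' Y Y' B B' : Sp S} (hX' : IsAlgSpace X')
    (hY' : IsAlgSpace Y') (hB' : IsAlgSpace B') (hX : IsAlgSpace X) (hY : IsAlgSpace Y)
    (hB : IsAlgSpace B) (iX : X ⟶ X') (iY : Y ⟶ Y') (iB : B ⟶ B')
    (f : X ⟶ Y) (f' : X' ⟶ Y') (g : Y ⟶ B) (g' : Y' ⟶ B')
    (hcX : IsPullback iX (f ≫ g) (f' ≫ g') iB) (hcY : IsPullback iY g g' iB)
    (w : iX ≫ f' = f ≫ iY) (hiB : IsThickMor iB)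
    (hg' : LocP @LocallyOfFiniteType g')
    (hflat : LocP @Flat (f' ≫ g')) (hfp : LocP @LocallyOfFinitePresentation (f' ≫ g'))
    (hf : LocP @Flat f) :
    LocP @Flat f' ∧ ∀ x' : Points X', IsFlatAtMor g' (Points.map f' x') := by
  have hsq : IsPullback iX f f' iY := IsPullback.of_bot hcX w hcY
  have hbc := (isOpen_flatLocus_and_baseChange hX' hY' hB' f' g' hfp hflat hg').2 X Y B hX hY hB iB
    f g iX iY hcY hsq
  have hiX : IsThickMor iX := (RepWith thick).of_isPullback hcX.flip hiB
  have hsurj : IsSurjectiveMor iX :=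
    isSurjectiveMor_of_repWith_surjective iX (repWith_mono thick_le_surjective hiX)
  have hall : ∀ x' : Points X', IsFlatAtMor f' x' := by
    intro x'
    obtain ⟨x, rfl⟩ := hsurj x'
    have hx : x ∈ {x | IsFlatAtMor f x} := isFlatAtMor_of_locP_flat f hf x
    rw [hbc] at hx
    exact hx
  have hf' : LocP @Flat f' := locP_flat_of_forall_isFlatAtMor f' hall
  exact ⟨hf', fun x' => isFlatAtMor_of_locP_flat_comp hX' hY' f' g' hf' hflat x'⟩

end Groth.Agent.Helper19.FibFlatLfp
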